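import Mathlib
import Groth.Prelude.Def_W4c2conddiscmodels

/-! Continuants of Hirzebruch–Jung expansions. -/

namespace Groth.Agent.HJH28

/-- continuants from the tail -/
def cont (b : ℕ → ℤ) (l : ℕ) : ℕ → ℤ
  | 0 => 0
  | 1 => 1
  | d + 2 => b (l - d) * cont b l (d + 1) - cont b l d

theorem cont_mono {b : ℕ → ℤ} {l : ℕ} (hb : ∀ i, 1 ≤ i → i ≤ l → 2 ≤ b i) :
    ∀ d, d ≤ l → 0 ≤ cont b l d ∧ cont b l d < cont b l (d + 1) := by
  intro d
  induction d with
  | zero => intro _; simp [cont]
  | succ d ih =>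
    intro hd
    obtain ⟨h0, h1⟩ := ih (by omega)
    refine ⟨by omega, ?_⟩
    show cont b l (d + 1) < b (l - d) * cont b l (d + 1) - cont b l d
    nlinarith [hb (l - d) (by omega) (by omega)]

theorem hjVal_eq {b : ℕ → ℤ} {l : ℕ} (hb : ∀ i, 1 ≤ i → i ≤ l → 2 ≤ b i) :
    ∀ d, d ≤ l → HJFrac.hjVal ((List.range d).map fun i => b (l - d + i + 1)) = (cont b l (d + 1) : ℚ) / cont b l d := by
  intro d
  induction d with
  | zero => intro _; simp [HJFrac.hjVal, cont]
  | succ d ih =>
    intro hd
    have e : (List.range (d + 1)).map (fun i => b (l - (d + 1) + i + 1)) = b (l - d) :: (List.range d).map (fun i => b (l - d + i + 1)) := by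
      rw [List.range_succ_eq_map, List.map_cons, List.map_map]
      congr 1
      · congr 1; omega
      · refine List.map_congr_left fun i _ => ?_
        simp only [Function.comp_apply]; congr 1; omega
    rw [e, HJFrac.hjVal, ih (by omega)]
    obtain ⟨h0, h1⟩ := cont_mono hb d (by omega)
    have hne : (cont b l (d + 1) : ℚ) ≠ 0 := by exact_mod_cast (by omega : cont b l (d + 1) ≠ 0)
    rw [inv_div, show cont b l (d + 1 + 1) = b (l - d) * cont b l (d + 1) - cont b l d from rfl]
    push_cast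
    field_simp

theorem cont_coprime (b : ℕ → ℤ) (l : ℕ) : ∀ d, IsCoprime (cont b l (d + 1)) (cont b l d) := by
  intro d
  induction d with
  | zero => exact ⟨1, 0, by simp [cont]⟩
  | succ d ih =>
    obtain ⟨u, v, h⟩ := ih
    refine ⟨-v, u + v * b (l - d), ?_⟩
    show -v * (b (l - d) * cont b l (d + 1) - cont b l d) + (u + v * b (l - d)) * cont b l (d + 1) = 1
    linear_combination h

theorem cont_eq {b : ℕ → ℤ} {l : ℕ} (hl : 1 ≤ l) (hb : ∀ i, 1 ≤ i → i ≤ l → 2 ≤ b i) {n r : ℕ} (hr : 0 < r)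
    (hcop : Nat.Coprime r n) (hhj : (n : ℚ) / r = HJFrac.hjVal ((List.range l).map fun i => b (i + 1))) :
    cont b l (l + 1) = n ∧ cont b l l = r := by
  have h := hjVal_eq hb l le_rfl
  simp only [Nat.sub_self, Nat.zero_add] at h
  rw [← hhj] at h
  have hlpos : 0 < cont b l l := by
    obtain ⟨h0, h1⟩ := cont_mono hb (l - 1) (by omega)
    rw [Nat.sub_add_cancel hl] at h1
    omega
  exact Rat.div_int_inj (a := (n : ℤ)) (b := (r : ℤ)) (c := cont b l (l + 1)) (d := cont b l l)
    (by exact_mod_cast hr) hlpos (by simpa using hcop.symm)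
    (Int.isCoprime_iff_nat_coprime.1 (cont_coprime b l l)) (by simpa using h) |>.imp Eq.symm Eq.symm

/-- Wronskian with any solution -/
theorem wronskian {b : ℕ → ℤ} {l : ℕ} {μ : ℕ → ℤ} (hsys : ∀ i, 1 ≤ i → i ≤ l → b i * μ i = μ (i - 1) + μ (i + 1)) :
    ∀ d, d ≤ l → μ (l + 1 - d) * cont b l (d + 1) - μ (l - d) * cont b l d = μ (l + 1) := by
  intro d
  induction d with
  | zero => intro _; simp [cont]
  | succ d ih =>
    intro hd
    have h := ih (by omega)
    have hs := hsys (l - d) (by omega) (by omega)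
    rw [show l - d - 1 = l - (d + 1) by omega, show l - d + 1 = l + 1 - d by omega] at hs
    rw [show l + 1 - (d + 1) = l - d by omega, show cont b l (d + 1 + 1) = b (l - d) * cont b l (d + 1) - cont b l d from rfl]
    linear_combination h + cont b l (d + 1) * hs

end Groth.Agent.HJH28
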