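import Mathlib
import Groth.Agent.Lib.HJH28.Basic
import Groth.Prelude.Def_W4c2invhilbsl2HJ

/-! Arithmetic of the Hirzebruch–Jung digits of `b/t`. -/

namespace Groth.Agent.HJH28

open W4c2invhilbsl2

section
variable {p q m : ℕ} {c : List ℤ}

/-- `τᵢ = t Pᵢ - b Qᵢ`. -/
def tau (p q m : ℕ) (c : List ℤ) (i : ℕ) : ℤ :=
  (tT p q m : ℤ) * hjP c i - (bB p q m : ℤ) * hjQ c i

lemma hjP_det (c : List ℤ) : ∀ i, hjP c (i + 1) * hjQ c i - hjP c i * hjQ c (i + 1) = -1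
  | 0 => by simp [hjP, hjQ]
  | i + 1 => by
    have h := hjP_det c i
    simp only [hjP, hjQ]
    linear_combination h

lemma hjP_lt {c : List ℤ} (hc : ∀ x ∈ c, (2 : ℤ) ≤ x) :
    ∀ i, i ≤ c.length → 0 ≤ hjP c i ∧ hjP c i < hjP c (i + 1)
  | 0, _ => by simp [hjP]
  | i + 1, h => by
    obtain ⟨h0, h1⟩ := hjP_lt hc i (by omega)
    refine ⟨by omega, ?_⟩
    have : (2 : ℤ) ≤ c.getD i 0 := by
      rw [List.getD_eq_getElem _ _ (by omega)]
      exact hc _ (List.getElem_mem _)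
    show hjP c (i + 1) < c.getD i 0 * hjP c (i + 1) - hjP c i
    nlinarith

theorem facts (hpq : p < q) (hcop : Nat.Coprime p q) (hm : 0 < m) (hnt : ¬ (q - p ∣ m)) :
    ((gcdK p q m : ℤ) * (tT p q m : ℤ) = ((q : ℤ) - p) * ((alpha p q m : ℤ) + 1) - (p : ℤ) * m) ∧
    ((gcdK p q m : ℤ) * (bB p q m : ℤ) = (q : ℤ) - p) ∧ 0 < gcdK p q m ∧
    0 < tT p q m ∧ tT p q m < bB p q m ∧ Nat.Coprime (tT p q m) (bB p q m) := by
  have hD : 0 < q - p := by omega
  obtain ⟨D, hDdef⟩ : ∃ D, D = q - p := ⟨_, rfl⟩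
  have hcopD : Nat.Coprime D p := by
    rw [hDdef, Nat.coprime_sub_self_left hpq.le]
    exact hcop.symm
  obtain ⟨g, hgdef⟩ : ∃ g, g = gcdK p q m := ⟨_, rfl⟩
  have hg : 0 < g := by rw [hgdef]; exact Nat.gcd_pos_of_pos_left _ hm
  have hgm : g ∣ m := hgdef ▸ Nat.gcd_dvd_left _ _
  have hgD : g ∣ D := by rw [hgdef, hDdef]; exact Nat.gcd_dvd_right _ _
  have hβ : 0 < m * p % D := by
    rw [Nat.pos_iff_ne_zero]
    intro h
    exact hnt (hDdef ▸ (Nat.Coprime.dvd_of_dvd_mul_right hcopD (Nat.dvd_of_mod_eq_zero h)))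
  have hβlt : m * p % D < D := Nat.mod_lt _ (by omega)
  have hgβ : g ∣ m * p % D := (Nat.dvd_mod_iff hgD).mpr (hgm.mul_right p)
  have hb : g * bB p q m = D := by
    rw [bB, ← hgdef, ← hDdef, Nat.mul_div_cancel' hgD]
  have ht : g * tT p q m = D - m * p % D := by
    rw [tT, ← hgdef, ← hDdef, Nat.mul_div_cancel' (Nat.dvd_sub hgD hgβ)]
  have hdiv := Nat.div_add_mod (m * p) D
  have halpha : alpha p q m = m * p / D := by rw [alpha, hDdef]
  rw [← halpha] at hdiv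
  have hDz : (D : ℤ) = (q : ℤ) - p := by rw [hDdef, Nat.cast_sub hpq.le]
  have htz : (g : ℤ) * (tT p q m : ℤ) = (D : ℤ) - ((m * p % D : ℕ) : ℤ) := by
    rw [← Nat.cast_sub hβlt.le, ← ht, Nat.cast_mul]
  refine ⟨?_, ?_, hgdef ▸ hg, ?_, ?_, ?_⟩
  · rw [← hgdef, htz, ← hDz]
    have h2 : ((D * alpha p q m + m * p % D : ℕ) : ℤ) = ((m * p : ℕ) : ℤ) := by exact_mod_cast hdiv
    push_cast at h2 ⊢
    linarith
  · rw [← hgdef, ← hDz, ← Nat.cast_mul, hb]
  · by_contra h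
    simp only [not_lt, Nat.le_zero] at h
    rw [h, Nat.mul_zero] at ht
    omega
  · by_contra h
    simp only [not_lt] at h
    have := Nat.mul_le_mul_left g h
    omega
  · rw [Nat.coprime_iff_gcd_eq_one]
    have h1 : g * Nat.gcd (tT p q m) (bB p q m) ∣ Nat.gcd m D := by
      rw [← Nat.gcd_mul_left, ht, hb]
      refine Nat.dvd_gcd ?_ (Nat.gcd_dvd_right _ _)
      have h3 : Nat.gcd (D - m * p % D) D ∣ m * p % D := by
        have := Nat.dvd_sub (Nat.gcd_dvd_right (D - m * p % D) D) (Nat.gcd_dvd_left (D - m * p % D) D)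
        rwa [Nat.sub_sub_self hβlt.le] at this
      have h4 : Nat.gcd (D - m * p % D) D ∣ m * p :=
        (Nat.dvd_mod_iff (Nat.gcd_dvd_right _ _)).mp h3
      exact Nat.Coprime.dvd_of_dvd_mul_right
        (Nat.Coprime.coprime_dvd_left (Nat.gcd_dvd_right _ _) hcopD) h4
    rw [show Nat.gcd m D = g by rw [hgdef, hDdef]; rfl] at h1
    exact Nat.dvd_one.mp ((Nat.mul_dvd_mul_iff_left hg).mp (by rwa [Nat.mul_one]))

theorem nN_eq (hpq : p < q) (hcop : Nat.Coprime p q) (hm : 0 < m) (hnt : ¬ (q - p ∣ m)) (i : ℕ) :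
    nN p q m c i = (gcdK p q m : ℤ) * tau p q m c i := by
  obtain ⟨h1, h2, -⟩ := facts hpq hcop hm hnt
  simp only [nN, eE, lL, tau]
  push_cast
  linear_combination -(hjP c i) * h1 + (hjQ c i) * h2

theorem tau_facts (hpq : p < q) (hcop : Nat.Coprime p q) (hm : 0 < m) (hnt : ¬ (q - p ∣ m))
    (hc : IsHJDigits p q m c) :
    ∀ i, i ≤ c.length → 0 ≤ tau p q m c (i + 1) ∧ tau p q m c (i + 1) < tau p q m c i := by
  obtain ⟨-, -, -, ht0, htb, hcp⟩ := facts hpq hcop hm hnt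
  obtain ⟨l, hl⟩ : ∃ l, l = c.length := ⟨_, rfl⟩
  let bb : ℕ → ℤ := fun i => c.getD (i - 1) 0
  have hbb : ∀ i, 1 ≤ i → i ≤ l → 2 ≤ bb i := fun i h1 h2 => by
    simp only [bb]
    rw [List.getD_eq_getElem _ _ (by omega)]
    exact hc.1 _ (List.getElem_mem _)
  have hlist : ((List.range l).map fun i => bb (i + 1)) = c := by
    refine List.ext_getElem (by simp [hl]) fun i h1 h2 => ?_
    simp [bb, List.getD_eq_getElem _ _ h2, Nat.add_sub_cancel, List.getElem?_eq_getElem h2]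
  have hl1 : 1 ≤ l := by
    by_contra h
    have : c = [] := List.eq_nil_of_length_eq_zero (by omega)
    have h2 := hc.2
    rw [this] at h2
    simp only [HJFrac.hjVal] at h2
    have h3 : (0 : ℚ) < (bB p q m : ℚ) / (tT p q m : ℚ) :=
      div_pos (by exact_mod_cast (by omega : 0 < bB p q m)) (by exact_mod_cast ht0)
    rw [← h2] at h3
    exact lt_irrefl _ h3
  have hend := cont_eq hl1 hbb ht0 hcp (by rw [hlist]; exact hc.2.symm)
  have key : ∀ i, i ≤ l → tau p q m c i = cont bb l (l + 1 - i) ∧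
      tau p q m c (i + 1) = cont bb l (l - i) := by
    intro i
    induction i with
    | zero =>
      intro _
      simp only [tau, hjP, hjQ, Nat.sub_zero, hend.1, hend.2]
      constructor <;> ring
    | succ i ih =>
      intro hi
      obtain ⟨h1, h2⟩ := ih (by omega)
      refine ⟨by rw [h2]; congr 1; omega, ?_⟩
      obtain ⟨d, hd⟩ : ∃ d, l - i = d + 1 := ⟨l - i - 1, by omega⟩
      have e : l + 1 - i = d + 2 := by omega
      rw [e] at h1
      rw [hd] at h2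
      rw [show l - (i + 1) = d by omega]
      have hrec : tau p q m c (i + 2) = c.getD i 0 * tau p q m c (i + 1) - tau p q m c i := by
        simp only [tau, hjP, hjQ]; ring
      rw [hrec, h1, h2, show cont bb l (d + 2) = bb (l - d) * cont bb l (d + 1) - cont bb l d from rfl,
        show l - d = i + 1 by omega]
      simp [bb]
  intro i hi
  obtain ⟨h1, h2⟩ := key i (by omega)
  obtain ⟨h3, h4⟩ := cont_mono hbb (l - i) (by omega)
  rw [h1, h2, show l + 1 - i = l - i + 1 by omega]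
  exact ⟨h3, h4⟩

theorem tau_le_zero (hpq : p < q) (hcop : Nat.Coprime p q) (hm : 0 < m) (hnt : ¬ (q - p ∣ m))
    (hc : IsHJDigits p q m c) : ∀ i, i ≤ c.length → tau p q m c i ≤ bB p q m
  | 0, _ => by simp [tau, hjP, hjQ]
  | i + 1, h => ((tau_facts hpq hcop hm hnt hc i (by omega)).2.le).trans (tau_le_zero hpq hcop hm hnt hc i (by omega))

theorem emod_tP (hpq : p < q) (hcop : Nat.Coprime p q) (hm : 0 < m) (hnt : ¬ (q - p ∣ m))
    (hc : IsHJDigits p q m c) (i : ℕ) (h1 : 1 ≤ i) (h2 : i ≤ c.length) :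
    ((tT p q m : ℤ) * hjP c i) % (bB p q m : ℤ) = tau p q m c i := by
  obtain ⟨j, rfl⟩ : ∃ j, i = j + 1 := ⟨i - 1, by omega⟩
  obtain ⟨h0, hlt⟩ := tau_facts hpq hcop hm hnt hc j (by omega)
  have := tau_le_zero hpq hcop hm hnt hc j (by omega)
  rw [show (tT p q m : ℤ) * hjP c (j + 1) = tau p q m c (j + 1) + hjQ c (j + 1) * bB p q m by
    simp only [tau]; ring, Int.add_mul_emod_self_right, Int.emod_eq_of_lt h0 (by omega)]

theorem lower_bound (hpq : p < q) (hcop : Nat.Coprime p q) (hm : 0 < m) (hnt : ¬ (q - p ∣ m))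
    (hc : IsHJDigits p q m c) (i : ℕ) (h1 : 1 < i) (h2 : i ≤ c.length) (x : ℤ) (hx0 : 0 < x)
    (hx : x < hjP c i) :
    tau p q m c (i - 1) ≤ ((tT p q m : ℤ) * x) % (bB p q m : ℤ) := by
  obtain ⟨j, rfl⟩ : ∃ j, i = j + 2 := ⟨i - 2, by omega⟩
  obtain ⟨-, -, -, -, htb, -⟩ := facts hpq hcop hm hnt
  obtain ⟨ρ, hρ⟩ : ∃ ρ, ρ = ((tT p q m : ℤ) * x) % (bB p q m : ℤ) := ⟨_, rfl⟩
  obtain ⟨y, hy⟩ : ∃ y, (tT p q m : ℤ) * x - (bB p q m : ℤ) * y = ρ :=
    ⟨((tT p q m : ℤ) * x) / (bB p q m : ℤ), by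
      rw [hρ]; have := Int.emod_add_mul_ediv ((tT p q m : ℤ) * x) (bB p q m); linarith⟩
  have hρ0 : 0 ≤ ρ := hρ ▸ Int.emod_nonneg _ (by omega)
  rw [← hρ]
  show tau p q m c (j + 1) ≤ ρ
  obtain ⟨hP0, hPlt⟩ := hjP_lt hc.1 (j + 1) (by omega)
  obtain ⟨hP0', hPlt'⟩ := hjP_lt hc.1 j (by omega)
  have hdet := hjP_det c (j + 1)
  obtain ⟨u, v, hxu, hyu⟩ : ∃ u v : ℤ, x = u * hjP c (j + 2) + v * hjP c (j + 1) ∧
      y = u * hjQ c (j + 2) + v * hjQ c (j + 1) := by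
    refine ⟨-(x * hjQ c (j + 1) - hjP c (j + 1) * y), -(hjP c (j + 2) * y - x * hjQ c (j + 2)), ?_, ?_⟩
    · linear_combination x * hdet
    · linear_combination y * hdet
  have hρuv : ρ = u * tau p q m c (j + 2) + v * tau p q m c (j + 1) := by
    rw [← hy, hxu, hyu]; simp only [tau]; ring
  obtain ⟨ht0, htlt⟩ := tau_facts hpq hcop hm hnt hc (j + 1) (by omega)
  rw [hρuv] at hρ0 ⊢
  have hv : 0 < v := by
    by_contra h
    simp only [not_lt] at h
    have hu : 0 < u := by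
      by_contra h'
      simp only [not_lt] at h'
      nlinarith
    rcases h.eq_or_lt with rfl | h
    · nlinarith
    · by_cases hle : u ≤ -v
      · nlinarith
      · nlinarith
  rcases le_or_gt 0 u with hu | hu
  · nlinarith
  · have hvu : -u < v := by
      by_contra h
      simp only [not_lt] at h
      nlinarith
    nlinarith

theorem upper_bound (hpq : p < q) (hcop : Nat.Coprime p q) (hm : 0 < m) (hnt : ¬ (q - p ∣ m))
    (hc : IsHJDigits p q m c) (i : ℕ) (h1 : 1 < i) (h2 : i ≤ c.length) (x : ℤ) (hx0 : 0 < x)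
    (hx : x < hjP c i) :
    ((tT p q m : ℤ) * x) % (bB p q m : ℤ) ≤
      (bB p q m : ℤ) + tau p q m c i - tau p q m c (i - 1) := by
  have hl1 := lower_bound hpq hcop hm hnt hc i h1 h2 x hx0 hx
  have hl2 := lower_bound hpq hcop hm hnt hc i h1 h2 (hjP c i - x) (by omega) (by omega)
  have he := emod_tP hpq hcop hm hnt hc i (by omega) h2
  obtain ⟨j, rfl⟩ : ∃ j, i = j + 1 := ⟨i - 1, by omega⟩
  obtain ⟨h0, hlt⟩ := tau_facts hpq hcop hm hnt hc j (by omega)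
  have hb := tau_le_zero hpq hcop hm hnt hc (j + 1) h2
  simp only [Nat.add_sub_cancel] at hl1 hl2 ⊢
  have hbpos : (0 : ℤ) < bB p q m := by
    have := (facts hpq hcop hm hnt).2.2.2.2.1
    omega
  obtain ⟨k, hk⟩ : ∃ k, ((tT p q m : ℤ) * x) % (bB p q m : ℤ) +
      ((tT p q m : ℤ) * (hjP c (j + 1) - x)) % (bB p q m : ℤ) = tau p q m c (j + 1) + (bB p q m : ℤ) * k := by
    refine ⟨hjQ c (j + 1) - ((tT p q m : ℤ) * x) / (bB p q m : ℤ)
      - ((tT p q m : ℤ) * (hjP c (j + 1) - x)) / (bB p q m : ℤ), ?_⟩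
    have e1 := Int.emod_add_mul_ediv ((tT p q m : ℤ) * x) (bB p q m)
    have e2 := Int.emod_add_mul_ediv ((tT p q m : ℤ) * (hjP c (j + 1) - x)) (bB p q m)
    simp only [tau]
    linear_combination e1 + e2
  have u1 := Int.emod_lt_of_pos ((tT p q m : ℤ) * x) hbpos
  have u2 := Int.emod_lt_of_pos ((tT p q m : ℤ) * (hjP c (j + 1) - x)) hbpos
  have hk1 : k = 1 := by
    have h5 : 0 < k := by
      by_contra h
      simp only [not_lt] at h
      nlinarith
    have h6 : k < 2 := by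
      by_contra h
      simp only [not_lt] at h
      nlinarith
    omega
  subst hk1
  linarith

theorem emod_pmx (hpq : p < q) (hcop : Nat.Coprime p q) (hm : 0 < m) (hnt : ¬ (q - p ∣ m))
    (hc : IsHJDigits p q m c) (i : ℕ) (h1 : 1 < i) (h2 : i ≤ c.length) (x : ℤ) (hx0 : 0 < x)
    (hx : x < hjP c i) :
    ((p : ℤ) * m * x + nN p q m c i) % ((q : ℤ) - p) = nN p q m c i + ((p : ℤ) * m * x) % ((q : ℤ) - p) := by
  obtain ⟨f1, f2, hg, -, htb, -⟩ := facts hpq hcop hm hnt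
  have hl := lower_bound hpq hcop hm hnt hc i h1 h2 x hx0 hx
  obtain ⟨j, rfl⟩ : ∃ j, i = j + 1 := ⟨i - 1, by omega⟩
  obtain ⟨h0, hlt⟩ := tau_facts hpq hcop hm hnt hc j (by omega)
  simp only [Nat.add_sub_cancel] at hl
  obtain ⟨ρ, hρ⟩ : ∃ ρ, ρ = ((tT p q m : ℤ) * x) % (bB p q m : ℤ) := ⟨_, rfl⟩
  have hbpos : (0 : ℤ) < bB p q m := by omega
  have hρlt : ρ < bB p q m := hρ ▸ Int.emod_lt_of_pos _ hbpos
  rw [← hρ] at hl
  have e1 := Int.emod_add_mul_ediv ((tT p q m : ℤ) * x) (bB p q m)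
  rw [← hρ] at e1
  obtain ⟨y, hy⟩ : ∃ y, y = ((tT p q m : ℤ) * x) / (bB p q m : ℤ) := ⟨_, rfl⟩
  rw [← hy] at e1
  have hgp : (0 : ℤ) < gcdK p q m := by exact_mod_cast hg
  have hpm : (p : ℤ) * m * x = (gcdK p q m : ℤ) * ((bB p q m : ℤ) - ρ)
      + ((x * ((alpha p q m : ℤ) + 1) - y - 1)) * ((q : ℤ) - p) := by
    linear_combination x * f1 + (gcdK p q m : ℤ) * e1 - (y + 1) * f2
  have hmod : ((p : ℤ) * m * x) % ((q : ℤ) - p) = (gcdK p q m : ℤ) * ((bB p q m : ℤ) - ρ) := by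
    rw [hpm, Int.add_mul_emod_self_right, Int.emod_eq_of_lt (by nlinarith) (by rw [← f2]; nlinarith)]
  rw [hmod, hpm, nN_eq hpq hcop hm hnt (j + 1), show (gcdK p q m : ℤ) * ((bB p q m : ℤ) - ρ)
      + (x * ((alpha p q m : ℤ) + 1) - y - 1) * ((q : ℤ) - p) + (gcdK p q m : ℤ) * tau p q m c (j + 1)
      = (gcdK p q m : ℤ) * ((bB p q m : ℤ) - ρ + tau p q m c (j + 1))
        + (x * ((alpha p q m : ℤ) + 1) - y - 1) * ((q : ℤ) - p) by ring,
    Int.add_mul_emod_self_right, Int.emod_eq_of_lt (by nlinarith) (by rw [← f2]; nlinarith)]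
  ring

end

end Groth.Agent.HJH28
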