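import Groth.Agent.Lib.HJH28.Digits

/-! The last two remainders. -/

namespace Groth.Agent.HJH28

open W4c2invhilbsl2

variable {p q m : ℕ} {c : List ℤ}

theorem tau_last (hpq : p < q) (hcop : Nat.Coprime p q) (hm : 0 < m) (hnt : ¬ (q - p ∣ m))
    (hc : IsHJDigits p q m c) :
    tau p q m c c.length = 1 ∧ tau p q m c (c.length + 1) = 0 := by
  obtain ⟨-, -, -, ht0, htb, hcp⟩ := facts hpq hcop hm hnt
  obtain ⟨l, hl⟩ : ∃ l, l = c.length := ⟨_, rfl⟩
  let bb : ℕ → ℤ := fun i => c.getD (i - 1) 0
  have hbb : ∀ i, 1 ≤ i → i ≤ l → 2 ≤ bb i := fun i h1 h2 => by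
    simp only [bb]
    rw [List.getD_eq_getElem _ _ (by omega)]
    exact hc.1 _ (List.getElem_mem _)
  have hlist : ((List.range l).map fun i => bb (i + 1)) = c := by
    refine List.ext_getElem (by simp [hl]) fun i h1 h2 => ?_
    simp [bb, List.getD_eq_getElem _ _ h2, Nat.add_sub_cancel, List.getElem?_eq_getElem h2]
  have hl1 : 1 ≤ l := by
    by_contra h
    have : c = [] := List.eq_nil_of_length_eq_zero (by omega)
    have h2 := hc.2
    rw [this] at h2
    simp only [HJFrac.hjVal] at h2
    have h3 : (0 : ℚ) < (bB p q m : ℚ) / (tT p q m : ℚ) :=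
      div_pos (by exact_mod_cast (by omega : 0 < bB p q m)) (by exact_mod_cast ht0)
    rw [← h2] at h3
    exact lt_irrefl _ h3
  have hend := cont_eq hl1 hbb ht0 hcp (by rw [hlist]; exact hc.2.symm)
  have key : ∀ i, i ≤ l → tau p q m c i = cont bb l (l + 1 - i) ∧
      tau p q m c (i + 1) = cont bb l (l - i) := by
    intro i
    induction i with
    | zero =>
      intro _
      simp only [tau, hjP, hjQ, Nat.sub_zero, hend.1, hend.2]
      constructor <;> ring
    | succ i ih =>
      intro hi
      obtain ⟨h1, h2⟩ := ih (by omega)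
      refine ⟨by rw [h2]; congr 1; omega, ?_⟩
      obtain ⟨d, hd⟩ : ∃ d, l - i = d + 1 := ⟨l - i - 1, by omega⟩
      have e : l + 1 - i = d + 2 := by omega
      rw [e] at h1
      rw [hd] at h2
      rw [show l - (i + 1) = d by omega]
      have hrec : tau p q m c (i + 2) = c.getD i 0 * tau p q m c (i + 1) - tau p q m c i := by
        simp only [tau, hjP, hjQ]; ring
      rw [hrec, h1, h2, show cont bb l (d + 2) = bb (l - d) * cont bb l (d + 1) - cont bb l d from rfl,
        show l - d = i + 1 by omega]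
      simp [bb]
  obtain ⟨h1, h2⟩ := key l le_rfl
  rw [← hl, h1, h2, Nat.sub_self, show l + 1 - l = 1 by omega]
  exact ⟨rfl, rfl⟩

end Groth.Agent.HJH28
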