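import Mathlib
import Groth.Agent.Lib.HJH28.Digits
import Groth.Prelude.Def_W4c2invhilbsl2HJ

/-! Weight pieces of the graded rings `k[X₀,…,X₄]`, `k[X₀,X₁,X₂]`. -/

namespace Groth.Agent.HJH28

open W4c2invhilbsl2 MvPolynomial

section general

variable {σ : Type*} {k : Type*} {M : Type*} [AddCommMonoid M] {w : σ → M}

/-- Monomials of a piece suffice. -/
lemma whs_le [CommRing k] {ν : M} {T : Submodule k (MvPolynomial σ k)}
    (h : ∀ d : σ →₀ ℕ, Finsupp.weight w d = ν → monomial d (1 : k) ∈ T) :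
    weightedHomogeneousSubmodule k w ν ≤ T := by
  intro f hf
  rw [f.as_sum]
  refine sum_mem fun d hd => ?_
  have := h d (hf (mem_support_iff.mp hd))
  rw [show monomial d (coeff d f) = coeff d f • monomial d (1 : k) by rw [smul_monomial, smul_eq_mul, mul_one]]
  exact T.smul_mem _ this

lemma rank_piece_le_one [Field k] {I : Ideal (MvPolynomial σ k)} {ν : M}
    (h : ∀ d d' : σ →₀ ℕ, Finsupp.weight w d = ν → Finsupp.weight w d' = ν →
      (∃ c : k, Ideal.Quotient.mk I (monomial d 1) = c • Ideal.Quotient.mk I (monomial d' 1)) ∨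
      (∃ c : k, Ideal.Quotient.mk I (monomial d' 1) = c • Ideal.Quotient.mk I (monomial d 1))) :
    Module.rank k (piece k w I ν) ≤ 1 := by
  classical
  rw [rank_submodule_le_one_iff']
  by_cases h0 : ∃ d : σ →₀ ℕ, Finsupp.weight w d = ν ∧ Ideal.Quotient.mk I (monomial d (1 : k)) ≠ 0
  · obtain ⟨e, he, hne⟩ := h0
    refine ⟨Ideal.Quotient.mk I (monomial e 1), ?_⟩
    refine Submodule.map_le_iff_le_comap.mpr (whs_le fun d hd => ?_)
    show Ideal.Quotient.mk I (monomial d 1) ∈ (k ∙ Ideal.Quotient.mk I (monomial e (1 : k)))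
    rw [Submodule.mem_span_singleton]
    rcases h d e hd he with ⟨c, hc⟩ | ⟨c, hc⟩
    · exact ⟨c, hc.symm⟩
    · have : c ≠ 0 := by rintro rfl; exact hne (by rw [hc, zero_smul])
      exact ⟨c⁻¹, by rw [hc, smul_smul, inv_mul_cancel₀ this, one_smul]⟩
  · refine ⟨0, Submodule.map_le_iff_le_comap.mpr (whs_le fun d hd => ?_)⟩
    show Ideal.Quotient.mk I (monomial d 1) ∈ (k ∙ (0 : MvPolynomial σ k ⧸ I))
    by_contra h1
    refine h0 ⟨d, hd, fun h2 => h1 ?_⟩
    rw [h2]
    exact zero_mem _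

lemma monomial_eq_prod [CommRing k] [Fintype σ] (d : σ →₀ ℕ) :
    monomial d (1 : k) = ∏ i, X i ^ d i := by
  rw [monomial_eq, C_1, one_mul, Finsupp.prod_fintype]
  simp

lemma X_pow_mem [CommRing k] (i : σ) (n : ℕ) :
    (X i : MvPolynomial σ k) ^ n ∈ weightedHomogeneousSubmodule k w (n • w i) :=
  (isWeightedHomogeneous_X k w i).pow n

end general

variable {k : Type*} {p q m : ℕ}

lemma mul_mem_whs [CommRing k] {σ : Type*} {M : Type*} [AddCommMonoid M] {w : σ → M} {a b : M}
    {f g : MvPolynomial σ k} (hf : f ∈ weightedHomogeneousSubmodule k w a)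
    (hg : g ∈ weightedHomogeneousSubmodule k w b) : f * g ∈ weightedHomogeneousSubmodule k w (a + b) :=
  hf.mul hg

lemma weight3 (d : Fin 3 →₀ ℕ) : Finsupp.weight (wt3 p q m) d =
    (((d 0 : ℤ) - p * d 1 + q * d 2), ((((d 2 : ℤ) - d 1 : ℤ)) : ZMod m)) := by
  rw [Finsupp.weight_apply, Finsupp.sum_fintype]
  · simp [Fin.sum_univ_three, wt3]
    refine Prod.ext ?_ ?_ <;> simp <;> ring
  · intro i; exact zero_smul ℕ _

lemma weight5 (d : Fin 5 →₀ ℕ) : Finsupp.weight (wt5 p q m) d =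
    (((d 0 : ℤ) - p * (d 1 + d 2) + q * (d 3 + d 4)),
      (((((d 3 : ℤ) + d 4) - (d 1 + d 2) : ℤ)) : ZMod m)) := by
  rw [Finsupp.weight_apply, Finsupp.sum_fintype]
  · simp [Fin.sum_univ_five, wt5]
    refine Prod.ext ?_ ?_ <;> simp <;> ring
  · intro i; exact zero_smul ℕ _

section Five

variable [Field k]

/-- monomials in five variables -/
noncomputable def M5 (a b c e f : ℕ) : MvPolynomial (Fin 5) k :=
  X 0 ^ a * X 1 ^ b * X 2 ^ c * X 3 ^ e * X 4 ^ f

lemma monomial5 (d : Fin 5 →₀ ℕ) : monomial d (1 : k) = M5 (d 0) (d 1) (d 2) (d 3) (d 4) := by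
  rw [monomial_eq_prod, Fin.prod_univ_five, M5]

lemma M5_mem (a b c e f : ℕ) {ν : ℤ × ZMod m}
    (h1 : (a : ℤ) - p * (b + c) + q * (e + f) = ν.1)
    (h2 : (((e : ℤ) + f - (b + c) : ℤ) : ZMod m) = ν.2) :
    M5 (k := k) a b c e f ∈ weightedHomogeneousSubmodule k (wt5 p q m) ν := by
  have := (((((X_pow_mem (k := k) (w := wt5 p q m) 0 a)).mul (X_pow_mem 1 b)).mul (X_pow_mem 2 c)).mul
    (X_pow_mem 3 e)).mul (X_pow_mem 4 f)
  refine (congrArg (fun z => M5 (k := k) a b c e f ∈ weightedHomogeneousSubmodule k (wt5 p q m) z) ?_).mp this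
  push_cast at h2
  simp [wt5, Prod.ext_iff, ← h1, ← h2]
  constructor <;> ring

theorem gen_X1 (f : MvPolynomial (Fin 5) k) (P : Ideal (MvPolynomial (Fin 5) k)) (hp : 0 < p)
    (hf : f ∈ weightedHomogeneousSubmodule k (wt5 p q m) (wt5 p q m 1)) :
    ∃ a b : MvPolynomial (Fin 5) k, a ∈ weightedHomogeneousSubmodule k (wt5 p q m) 0 ∧
      b ∈ weightedHomogeneousSubmodule k (wt5 p q m) 0 ∧ f - (a * X 1 + b * X 2) ∈ P := by
  let W := weightedHomogeneousSubmodule k (wt5 p q m) 0
  have key : weightedHomogeneousSubmodule k (wt5 p q m) (wt5 p q m 1) ≤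
      W.map (LinearMap.mulRight k (X 1)) ⊔ W.map (LinearMap.mulRight k (X 2)) := whs_le fun d hd => by
    rw [weight5] at hd
    simp [wt5, Prod.ext_iff] at hd
    obtain ⟨hd1, hd2⟩ := hd
    rw [monomial5]
    by_cases h1 : 1 ≤ d 1
    · refine Submodule.mem_sup_left ⟨M5 (d 0) (d 1 - 1) (d 2) (d 3) (d 4), M5_mem _ _ _ _ _ ?_ ?_, ?_⟩
      · push_cast [h1]; simp; linarith
      · push_cast [h1]; simp; linear_combination hd2
      · obtain ⟨n, hn⟩ := Nat.exists_eq_add_of_le h1
        simp only [LinearMap.mulRight_apply, M5, hn, Nat.add_sub_cancel_left]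
        ring
    · have h2 : 1 ≤ d 2 := by
        by_contra h2
        have e1 : d 1 = 0 := by omega
        have e2 : d 2 = 0 := by omega
        rw [e1, e2] at hd1
        push_cast at hd1
        nlinarith
      refine Submodule.mem_sup_right ⟨M5 (d 0) (d 1) (d 2 - 1) (d 3) (d 4), M5_mem _ _ _ _ _ ?_ ?_, ?_⟩
      · push_cast [h2]; simp; linarith
      · push_cast [h2]; simp; linear_combination hd2
      · obtain ⟨n, hn⟩ := Nat.exists_eq_add_of_le h2
        simp only [LinearMap.mulRight_apply, M5, hn, Nat.add_sub_cancel_left]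
        ring
  obtain ⟨_, ⟨a, ha, rfl⟩, _, ⟨b, hb, rfl⟩, hab⟩ := Submodule.mem_sup.mp (key hf)
  refine ⟨a, b, ha, hb, ?_⟩
  simp [← hab]

theorem gen_X3 (hpq : p < q) (f : MvPolynomial (Fin 5) k)
    (hf : f ∈ weightedHomogeneousSubmodule k (wt5 p q m) (wt5 p q m 3)) :
    ∃ a b : MvPolynomial (Fin 5) k, a ∈ weightedHomogeneousSubmodule k (wt5 p q m) 0 ∧
      b ∈ weightedHomogeneousSubmodule k (wt5 p q m) 0 ∧
      f - (a * X 3 + b * X 4) ∈ Ideal.span {X (0 : Fin 5) ^ (q - p) - X 1 * X 4 + X 2 * X 3} := by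
  obtain ⟨D, hD, hqD⟩ : ∃ D, D = q - p ∧ q = p + D := ⟨q - p, rfl, by omega⟩
  rw [← hD]
  let W := weightedHomogeneousSubmodule k (wt5 p q m) 0
  let P := (Ideal.span {X (0 : Fin 5) ^ D - X 1 * X 4 + X 2 * X 3} : Ideal (MvPolynomial (Fin 5) k))
  have key : weightedHomogeneousSubmodule k (wt5 p q m) (wt5 p q m 3) ≤
      W.map (LinearMap.mulRight k (X 3)) ⊔ W.map (LinearMap.mulRight k (X 4)) ⊔ P.restrictScalars k :=
    whs_le fun d hd => by
      rw [weight5] at hd
      simp [wt5, Prod.ext_iff] at hd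
      obtain ⟨hd1, hd2⟩ := hd
      rw [monomial5]
      by_cases h3 : 1 ≤ d 3
      · refine Submodule.mem_sup_left (Submodule.mem_sup_left
          ⟨M5 (d 0) (d 1) (d 2) (d 3 - 1) (d 4), M5_mem _ _ _ _ _ ?_ ?_, ?_⟩)
        · push_cast [h3]; simp; linarith
        · push_cast [h3]; simp; linear_combination hd2
        · obtain ⟨n, hn⟩ := Nat.exists_eq_add_of_le h3
          simp only [LinearMap.mulRight_apply, M5, hn, Nat.add_sub_cancel_left]
          ring
      by_cases h4 : 1 ≤ d 4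
      · refine Submodule.mem_sup_left (Submodule.mem_sup_right
          ⟨M5 (d 0) (d 1) (d 2) (d 3) (d 4 - 1), M5_mem _ _ _ _ _ ?_ ?_, ?_⟩)
        · push_cast [h4]; simp; linarith
        · push_cast [h4]; simp; linear_combination hd2
        · obtain ⟨n, hn⟩ := Nat.exists_eq_add_of_le h4
          simp only [LinearMap.mulRight_apply, M5, hn, Nat.add_sub_cancel_left]
          ring
      have e3 : d 3 = 0 := by omega
      have e4 : d 4 = 0 := by omega
      rw [e3, e4] at hd1 hd2 ⊢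
      have hd0 : D ≤ d 0 := by
        by_contra h
        simp only [not_le] at h
        push_cast at hd1
        have : (p : ℤ) * ((d 1 : ℤ) + d 2) ≥ 0 := by positivity
        have h' : (d 0 : ℤ) < D := by exact_mod_cast h
        have h'' : (q : ℤ) = p + D := by exact_mod_cast hqD
        have : (0 : ℤ) ≤ p := by positivity
        nlinarith
      obtain ⟨n, hn⟩ := Nat.exists_eq_add_of_le hd0
      have hq' : (q : ℤ) = p + D := by exact_mod_cast hqD
      have hn' : (d 0 : ℤ) = D + n := by exact_mod_cast hn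
      push_cast at hd1 hd2
      have hrw : M5 (k := k) (d 0) (d 1) (d 2) 0 0 = (-M5 n (d 1) (d 2 + 1) 0 0) * X 3 + M5 n (d 1 + 1) (d 2) 0 0 * X 4
          + M5 n (d 1) (d 2) 0 0 * (X 0 ^ D - X 1 * X 4 + X 2 * X 3) := by
        simp only [M5, hn]; ring
      rw [hrw]
      refine add_mem (add_mem (Submodule.mem_sup_left (Submodule.mem_sup_left ⟨_, neg_mem (M5_mem _ _ _ _ _ ?_ ?_), rfl⟩))
        (Submodule.mem_sup_left (Submodule.mem_sup_right ⟨_, M5_mem _ _ _ _ _ ?_ ?_, rfl⟩)))
        (Submodule.mem_sup_right (Ideal.mul_mem_left _ _ (Ideal.mem_span_singleton_self _)))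
      · push_cast; simp; linarith
      · push_cast; simp; linear_combination hd2
      · push_cast; simp; linarith
      · push_cast; simp; linear_combination hd2
  obtain ⟨_, hab', c, hc, habc⟩ := Submodule.mem_sup.mp (key hf)
  obtain ⟨_, ⟨a, ha, rfl⟩, _, ⟨b, hb, rfl⟩, rfl⟩ := Submodule.mem_sup.mp hab'
  refine ⟨a, b, ha, hb, ?_⟩
  simpa [← habc] using hc

theorem gen_diff (hp : 0 < p) (hpq : p < q) (f : MvPolynomial (Fin 5) k)
    (hf : f ∈ weightedHomogeneousSubmodule k (wt5 p q m) ((q : ℤ) - (p : ℤ), (0 : ZMod m))) :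
    ∃ a₁₃ a₁₄ a₂₃ a₂₄ : MvPolynomial (Fin 5) k,
      a₁₃ ∈ weightedHomogeneousSubmodule k (wt5 p q m) 0 ∧ a₁₄ ∈ weightedHomogeneousSubmodule k (wt5 p q m) 0 ∧
      a₂₃ ∈ weightedHomogeneousSubmodule k (wt5 p q m) 0 ∧ a₂₄ ∈ weightedHomogeneousSubmodule k (wt5 p q m) 0 ∧
      f - (a₁₃ * (X (1 : Fin 5) * X 3) + a₁₄ * (X (1 : Fin 5) * X 4) +
          a₂₃ * (X (2 : Fin 5) * X 3) + a₂₄ * (X (2 : Fin 5) * X 4)) ∈
        Ideal.span {X (0 : Fin 5) ^ (q - p) - X 1 * X 4 + X 2 * X 3} := by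
  obtain ⟨D, hD, hqD⟩ : ∃ D, D = q - p ∧ q = p + D := ⟨q - p, rfl, by omega⟩
  rw [← hD]
  have hq' : (q : ℤ) = p + D := by exact_mod_cast hqD
  let W := weightedHomogeneousSubmodule k (wt5 p q m) 0
  let P := (Ideal.span {X (0 : Fin 5) ^ D - X 1 * X 4 + X 2 * X 3} : Ideal (MvPolynomial (Fin 5) k))
  have key : weightedHomogeneousSubmodule k (wt5 p q m) ((q : ℤ) - (p : ℤ), (0 : ZMod m)) ≤
      W.map (LinearMap.mulRight k (X 1 * X 3)) ⊔ W.map (LinearMap.mulRight k (X 1 * X 4)) ⊔
        W.map (LinearMap.mulRight k (X 2 * X 3)) ⊔ W.map (LinearMap.mulRight k (X 2 * X 4)) ⊔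
          P.restrictScalars k :=
    whs_le fun d hd => by
      rw [weight5] at hd
      simp [Prod.ext_iff] at hd
      obtain ⟨hd1, hd2⟩ := hd
      rw [monomial5]
      by_cases h0 : D ≤ d 0
      · obtain ⟨n, hn⟩ := Nat.exists_eq_add_of_le h0
        have hn' : (d 0 : ℤ) = D + n := by exact_mod_cast hn
        have hrw : M5 (k := k) (d 0) (d 1) (d 2) (d 3) (d 4) = M5 n (d 1) (d 2) (d 3) (d 4) * (X 1 * X 4)
            + (-M5 n (d 1) (d 2) (d 3) (d 4)) * (X 2 * X 3)
            + M5 n (d 1) (d 2) (d 3) (d 4) * (X 0 ^ D - X 1 * X 4 + X 2 * X 3) := by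
          simp only [M5, hn]; ring
        have hmem : M5 (k := k) n (d 1) (d 2) (d 3) (d 4) ∈ W := M5_mem _ _ _ _ _ (by simp; linarith) (by simpa using hd2)
        rw [hrw]
        refine add_mem (add_mem (Submodule.mem_sup_left (Submodule.mem_sup_left (Submodule.mem_sup_left
          (Submodule.mem_sup_right ⟨_, hmem, rfl⟩))))
          (Submodule.mem_sup_left (Submodule.mem_sup_left (Submodule.mem_sup_right ⟨_, neg_mem hmem, rfl⟩))))
          (Submodule.mem_sup_right (Ideal.mul_mem_left _ _ (Ideal.mem_span_singleton_self _)))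
      · have hu : 1 ≤ d 1 + d 2 := by
          by_contra h
          have e1 : d 1 = 0 := by omega
          have e2 : d 2 = 0 := by omega
          rw [e1, e2] at hd1
          push_cast at hd1
          have h' : (d 0 : ℤ) < D := by exact_mod_cast (by omega : d 0 < D)
          rcases Nat.eq_zero_or_pos (d 3 + d 4) with e | e
          · have : ((d 3 : ℤ) + d 4) = 0 := by exact_mod_cast e
            rw [this] at hd1
            linarith
          · have : (1 : ℤ) ≤ (d 3 : ℤ) + d 4 := by exact_mod_cast e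
            have hp' : (0 : ℤ) < p := by exact_mod_cast hp
            nlinarith
        have hv : 1 ≤ d 3 + d 4 := by
          by_contra h
          have e1 : d 3 = 0 := by omega
          have e2 : d 4 = 0 := by omega
          rw [e1, e2] at hd1
          push_cast at hd1
          have h' : (d 0 : ℤ) < D := by exact_mod_cast (by omega : d 0 < D)
          have : (0 : ℤ) ≤ (p : ℤ) * ((d 1 : ℤ) + d 2) := by positivity
          linarith
        by_cases h1 : 1 ≤ d 1 <;> by_cases h3 : 1 ≤ d 3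
        · refine Submodule.mem_sup_left (Submodule.mem_sup_left (Submodule.mem_sup_left (Submodule.mem_sup_left
            ⟨M5 (d 0) (d 1 - 1) (d 2) (d 3 - 1) (d 4), M5_mem _ _ _ _ _ ?_ ?_, ?_⟩)))
          · push_cast [h1, h3]; simp; linarith
          · push_cast [h1, h3]; simp; linear_combination hd2
          · obtain ⟨n, hn⟩ := Nat.exists_eq_add_of_le h1
            obtain ⟨n', hn'⟩ := Nat.exists_eq_add_of_le h3
            simp only [LinearMap.mulRight_apply, M5, hn, hn', Nat.add_sub_cancel_left]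
            ring
        · have h4 : 1 ≤ d 4 := by omega
          refine Submodule.mem_sup_left (Submodule.mem_sup_left (Submodule.mem_sup_left (Submodule.mem_sup_right
            ⟨M5 (d 0) (d 1 - 1) (d 2) (d 3) (d 4 - 1), M5_mem _ _ _ _ _ ?_ ?_, ?_⟩)))
          · push_cast [h1, h4]; simp; linarith
          · push_cast [h1, h4]; simp; linear_combination hd2
          · obtain ⟨n, hn⟩ := Nat.exists_eq_add_of_le h1
            obtain ⟨n', hn'⟩ := Nat.exists_eq_add_of_le h4
            simp only [LinearMap.mulRight_apply, M5, hn, hn', Nat.add_sub_cancel_left]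
            ring
        · have h2 : 1 ≤ d 2 := by omega
          refine Submodule.mem_sup_left (Submodule.mem_sup_left (Submodule.mem_sup_right
            ⟨M5 (d 0) (d 1) (d 2 - 1) (d 3 - 1) (d 4), M5_mem _ _ _ _ _ ?_ ?_, ?_⟩))
          · push_cast [h2, h3]; simp; linarith
          · push_cast [h2, h3]; simp; linear_combination hd2
          · obtain ⟨n, hn⟩ := Nat.exists_eq_add_of_le h2
            obtain ⟨n', hn'⟩ := Nat.exists_eq_add_of_le h3
            simp only [LinearMap.mulRight_apply, M5, hn, hn', Nat.add_sub_cancel_left]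
            ring
        · have h2 : 1 ≤ d 2 := by omega
          have h4 : 1 ≤ d 4 := by omega
          refine Submodule.mem_sup_left (Submodule.mem_sup_right
            ⟨M5 (d 0) (d 1) (d 2 - 1) (d 3) (d 4 - 1), M5_mem _ _ _ _ _ ?_ ?_, ?_⟩)
          · push_cast [h2, h4]; simp; linarith
          · push_cast [h2, h4]; simp; linear_combination hd2
          · obtain ⟨n, hn⟩ := Nat.exists_eq_add_of_le h2
            obtain ⟨n', hn'⟩ := Nat.exists_eq_add_of_le h4
            simp only [LinearMap.mulRight_apply, M5, hn, hn', Nat.add_sub_cancel_left]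
            ring
  obtain ⟨_, h1, c, hc, habc⟩ := Submodule.mem_sup.mp (key hf)
  obtain ⟨_, h2, _, ⟨a24, ha24, rfl⟩, rfl⟩ := Submodule.mem_sup.mp h1
  obtain ⟨_, h3, _, ⟨a23, ha23, rfl⟩, rfl⟩ := Submodule.mem_sup.mp h2
  obtain ⟨_, ⟨a13, ha13, rfl⟩, _, ⟨a14, ha14, rfl⟩, rfl⟩ := Submodule.mem_sup.mp h3
  refine ⟨a13, a14, a23, a24, ha13, ha14, ha23, ha24, ?_⟩
  convert (show c ∈ P from hc) using 1
  rw [← habc]
  simp only [LinearMap.mulRight_apply]
  ring

end Five

end Groth.Agent.HJH28
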