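import Mathlib
import Groth.Agent.Lib.HJH28.Pieces

/-! Weight pieces of `k[X₀,X₁,X₂]` modulo the ideals `L⁽ⁱ⁾ₛ`, and of the five variable quotients. -/

namespace Groth.Agent.HJH28

open W4c2invhilbsl2 MvPolynomial

variable {k : Type*} [Field k] {p q m : ℕ} {c : List ℤ}

lemma e_l_facts (hpq : p < q) (hcop : Nat.Coprime p q) (hm : 0 < m) (hnt : ¬ (q - p ∣ m))
    (hc : IsHJDigits p q m c) (i : ℕ) (h1 : 1 ≤ i) (h2 : i ≤ c.length) :
    0 ≤ lL p q m c i ∧ 0 < eE p q m c i ∧ lL p q m c i ≤ eE p q m c i ∧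
    eE p q m c i = lL p q m c i + m * hjP c i := by
  obtain ⟨f1, f2, hg, ht, htb, -⟩ := facts hpq hcop hm hnt
  obtain ⟨j, rfl⟩ : ∃ j, i = j + 1 := ⟨i - 1, by omega⟩
  obtain ⟨h0, -⟩ := tau_facts hpq hcop hm hnt hc j (by omega)
  obtain ⟨hP0, hP⟩ := hjP_lt hc.1 j (by omega)
  have hQ : hjQ c (j + 1) < hjP c (j + 1) := by
    by_contra h
    simp only [not_lt] at h
    simp only [tau] at h0
    have hb : (tT p q m : ℤ) < bB p q m := by exact_mod_cast htb
    nlinarith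
  have he : eE p q m c (j + 1) = lL p q m c (j + 1) + m * hjP c (j + 1) := by
    simp only [eE, lL]; push_cast; ring
  have hl : 0 ≤ lL p q m c (j + 1) := by
    simp only [lL]; push_cast
    nlinarith [show (0 : ℤ) ≤ alpha p q m from Int.natCast_nonneg _]
  have hmP : (0 : ℤ) < m * hjP c (j + 1) := mul_pos (by exact_mod_cast hm) (by omega)
  exact ⟨hl, by omega, by omega, he⟩

lemma nN_facts (hpq : p < q) (hcop : Nat.Coprime p q) (hm : 0 < m) (hnt : ¬ (q - p ∣ m))
    (hc : IsHJDigits p q m c) (i : ℕ) (h2 : i ≤ c.length) :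
    0 ≤ nN p q m c (i + 1) ∧ nN p q m c (i + 1) < nN p q m c i ∧ nN p q m c i ≤ (q : ℤ) - p := by
  obtain ⟨f1, f2, hg, -⟩ := facts hpq hcop hm hnt
  obtain ⟨h0, hlt⟩ := tau_facts hpq hcop hm hnt hc i h2
  have hle := tau_le_zero hpq hcop hm hnt hc i h2
  rw [nN_eq hpq hcop hm hnt, nN_eq hpq hcop hm hnt, ← f2]
  have hg' : (0 : ℤ) < gcdK p q m := by exact_mod_cast hg
  exact ⟨mul_nonneg hg'.le h0, mul_lt_mul_of_pos_left hlt hg', mul_le_mul_of_nonneg_left hle hg'.le⟩

/-- The lattice point lemma. -/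
theorem core (hp : 0 < p) (hpq : p < q) (hcop : Nat.Coprime p q) (hm : 0 < m) (hnt : ¬ (q - p ∣ m))
    (hc : IsHJDigits p q m c) (i : ℕ) (h1 : 1 ≤ i) (h2 : i ≤ c.length) (U V h : ℤ) (hU : 0 ≤ U)
    (hV : 0 ≤ V) (hne : 0 < U + V) (hdvd : (m : ℤ) ∣ U - V) (hh : (q : ℤ) * V - p * U = h)
    (h0 : 0 ≤ h) (hlt : h < nN p q m c (i - 1)) :
    eE p q m c i ≤ U ∧ lL p q m c i ≤ V := by
  obtain ⟨f1, f2, hg, ht, htb, -⟩ := facts hpq hcop hm hnt
  have hg' : (0 : ℤ) < gcdK p q m := by exact_mod_cast hg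
  have hb : (tT p q m : ℤ) < bB p q m := by exact_mod_cast htb
  obtain ⟨z, hz⟩ := hdvd
  obtain ⟨j, rfl⟩ : ∃ j, i = j + 1 := ⟨i - 1, by omega⟩
  simp only [Nat.add_sub_cancel] at hlt
  obtain ⟨h0', hlt'⟩ := tau_facts hpq hcop hm hnt hc j (by omega)
  have hle := tau_le_zero hpq hcop hm hnt hc j (by omega)
  rw [nN_eq hpq hcop hm hnt] at hlt
  obtain ⟨w, hw⟩ : ∃ w, w = (tT p q m : ℤ) * z - bB p q m * (((alpha p q m : ℤ) + 1) * z - V) := ⟨_, rfl⟩
  have hhw : h = (gcdK p q m : ℤ) * w := by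
    rw [hw, ← hh]
    linear_combination (-(z)) * f1 + (((alpha p q m : ℤ) + 1) * z - V) * f2 + (-(p : ℤ)) * hz
  rw [hhw] at hlt h0
  have hw0 : 0 ≤ w := nonneg_of_mul_nonneg_right h0 hg'
  have hwlt : w < tau p q m c j := lt_of_mul_lt_mul_left hlt hg'.le
  have hz1 : 1 ≤ z := by
    by_contra hcon
    have hz0 : z ≤ 0 := by omega
    have hUV : U ≤ V := by
      have := mul_nonpos_of_nonneg_of_nonpos (Int.natCast_nonneg m) hz0
      linarith
    have hV1 : 1 ≤ V := by omega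
    have hp' : (0 : ℤ) < p := by exact_mod_cast hp
    have hge : (q : ℤ) - p ≤ h := by
      rw [← hh]
      have hD0 : (0 : ℤ) ≤ (q : ℤ) - p := by
        have : (p : ℤ) < q := by exact_mod_cast hpq
        omega
      linarith [mul_le_mul_of_nonneg_left hV1 hD0, mul_le_mul_of_nonneg_left hUV hp'.le]
    rw [hhw, ← f2] at hge
    have := le_of_mul_le_mul_left hge hg'
    omega
  have hzP : hjP c (j + 1) ≤ z := by
    by_contra hcon
    simp only [not_le] at hcon
    rcases Nat.eq_zero_or_pos j with rfl | hj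
    · simp [hjP] at hcon; omega
    · have hl := lower_bound hpq hcop hm hnt hc (j + 1) (by omega) h2 z (by omega) hcon
      simp only [Nat.add_sub_cancel] at hl
      rw [show (tT p q m : ℤ) * z = w + (((alpha p q m : ℤ) + 1) * z - V) * bB p q m by rw [hw]; ring,
        Int.add_mul_emod_self_right, Int.emod_eq_of_lt hw0 (by omega)] at hl
      omega
  have hYZ : ((alpha p q m : ℤ) + 1) * z - V - hjQ c (j + 1) ≤ z - hjP c (j + 1) := by
    by_contra hcon
    simp only [not_le] at hcon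
    simp only [tau] at h0' hlt'
    have hτ : tau p q m c (j + 1) < bB p q m := by
      have := (tau_facts hpq hcop hm hnt hc j (by omega)).2
      omega
    simp only [tau] at hτ
    have k1 : 0 ≤ ((bB p q m : ℤ) - tT p q m) * (z - hjP c (j + 1)) :=
      mul_nonneg (by linarith) (sub_nonneg.mpr hzP)
    have k2 : (bB p q m : ℤ) * (z - hjP c (j + 1) + 1) ≤
        bB p q m * (((alpha p q m : ℤ) + 1) * z - V - hjQ c (j + 1)) :=
      mul_le_mul_of_nonneg_left hcon (Int.natCast_nonneg _)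
    rw [hw] at hw0
    linarith
  have hV' : lL p q m c (j + 1) ≤ V := by
    simp only [lL]; push_cast
    linarith [mul_nonneg (show (0 : ℤ) ≤ alpha p q m from Int.natCast_nonneg _) (sub_nonneg.mpr hzP)]
  refine ⟨?_, hV'⟩
  rw [(e_l_facts hpq hcop hm hnt hc (j + 1) (by omega) h2).2.2.2]
  linarith [mul_le_mul_of_nonneg_left hzP (Int.natCast_nonneg m)]

/-- monomials in three variables -/
noncomputable def M3 (a b f : ℕ) : MvPolynomial (Fin 3) k := X 0 ^ a * X 1 ^ b * X 2 ^ f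

lemma monomial3 (d : Fin 3 →₀ ℕ) : monomial d (1 : k) = M3 (d 0) (d 1) (d 2) := by
  rw [monomial_eq_prod, Fin.prod_univ_three, M3]

lemma M3_mem (a b f : ℕ) {ν : ℤ × ZMod m}
    (h1 : (a : ℤ) - p * b + q * f = ν.1) (h2 : (((f : ℤ) - b : ℤ) : ZMod m) = ν.2) :
    M3 (k := k) a b f ∈ weightedHomogeneousSubmodule k (wt3 p q m) ν := by
  have := (((X_pow_mem (k := k) (w := wt3 p q m) 0 a)).mul (X_pow_mem 1 b)).mul (X_pow_mem 2 f)
  refine (congrArg (fun z => M3 (k := k) a b f ∈ weightedHomogeneousSubmodule k (wt3 p q m) z) ?_).mp this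
  push_cast at h2
  simp [wt3, Prod.ext_iff, ← h1, ← h2]
  constructor <;> ring

/-- Generation of a weight piece by two monomials. -/
lemma gen_two (n e l : ℕ) (f : MvPolynomial (Fin 3) k)
    (hw1 : (-(p : ℤ)) * e + q * l = n) (hw2 : (((l : ℤ) - e : ℤ) : ZMod m) = 0)
    (h : ∀ a u v : ℕ, (a : ℤ) - p * u + q * v = n → (((v : ℤ) - u : ℤ) : ZMod m) = 0 →
      n ≤ a ∨ (e ≤ u ∧ l ≤ v))
    (hf : f ∈ weightedHomogeneousSubmodule k (wt3 p q m) ((n : ℤ), (0 : ZMod m))) :
    ∃ a b : MvPolynomial (Fin 3) k, a ∈ weightedHomogeneousSubmodule k (wt3 p q m) 0 ∧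
      b ∈ weightedHomogeneousSubmodule k (wt3 p q m) 0 ∧
      f = a * X 0 ^ n + b * (X 1 ^ e * X 2 ^ l) := by
  let W := weightedHomogeneousSubmodule k (wt3 p q m) 0
  have key : weightedHomogeneousSubmodule k (wt3 p q m) ((n : ℤ), (0 : ZMod m)) ≤
      W.map (LinearMap.mulRight k (X 0 ^ n)) ⊔ W.map (LinearMap.mulRight k (X 1 ^ e * X 2 ^ l)) :=
    whs_le fun d hd => by
      rw [weight3, Prod.ext_iff] at hd
      obtain ⟨hd1, hd2⟩ := hd
      simp only at hd1 hd2
      rw [monomial3]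
      rcases h _ _ _ hd1 hd2 with h0 | ⟨h1, h2⟩
      · obtain ⟨r, hr⟩ := Nat.exists_eq_add_of_le h0
        have hr' : (d 0 : ℤ) = n + r := by exact_mod_cast hr
        refine Submodule.mem_sup_left ⟨M3 r (d 1) (d 2), M3_mem _ _ _ ?_ hd2, ?_⟩
        · show (r : ℤ) - p * d 1 + q * d 2 = 0
          linarith
        · simp only [LinearMap.mulRight_apply, M3, hr]; ring
      · obtain ⟨r, hr⟩ := Nat.exists_eq_add_of_le h1
        obtain ⟨r', hr'⟩ := Nat.exists_eq_add_of_le h2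
        refine Submodule.mem_sup_right ⟨M3 (d 0) r r', M3_mem _ _ _ ?_ ?_, ?_⟩
        · show (d 0 : ℤ) - p * r + q * r' = 0
          rw [hr, hr'] at hd1
          push_cast at hd1
          linarith
        · show (((r' : ℤ) - r : ℤ) : ZMod m) = 0
          rw [hr, hr'] at hd2
          push_cast at hd2 hw2 ⊢
          linear_combination hd2 - hw2
        · simp only [LinearMap.mulRight_apply, M3, hr, hr']; ring
  obtain ⟨_, ⟨a, ha, rfl⟩, _, ⟨b, hb, rfl⟩, hab⟩ := Submodule.mem_sup.mp (key hf)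
  exact ⟨a, b, ha, hb, hab.symm⟩

theorem gen_three_diff (hp : 0 < p) (hpq : p < q) (f : MvPolynomial (Fin 3) k)
    (hf : f ∈ weightedHomogeneousSubmodule k (wt3 p q m) ((q : ℤ) - (p : ℤ), (0 : ZMod m))) :
    ∃ a b : MvPolynomial (Fin 3) k, a ∈ weightedHomogeneousSubmodule k (wt3 p q m) 0 ∧
      b ∈ weightedHomogeneousSubmodule k (wt3 p q m) 0 ∧
      f = a * X (0 : Fin 3) ^ (q - p) + b * (X (1 : Fin 3) * X (2 : Fin 3)) := by
  obtain ⟨D, hD, hqD⟩ : ∃ D, D = q - p ∧ q = p + D := ⟨q - p, rfl, by omega⟩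
  have hq' : (q : ℤ) = p + D := by exact_mod_cast hqD
  rw [← hD]
  rw [show (q : ℤ) - (p : ℤ) = (D : ℤ) by linarith] at hf
  obtain ⟨a, b, ha, hb, hab⟩ := gen_two D 1 1 f (by push_cast; linarith) (by simp) (fun a u v h1 h2 => by
    by_cases ha : D ≤ a
    · exact Or.inl ha
    · right
      have h' : (a : ℤ) < D := by exact_mod_cast (by omega : a < D)
      have hp' : (0 : ℤ) < p := by exact_mod_cast hp
      constructor
      · by_contra hu
        have : (u : ℤ) = 0 := by omega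
        rw [this] at h1
        rcases Nat.eq_zero_or_pos v with e | e
        · subst e; push_cast at h1; linarith
        · have : (1 : ℤ) ≤ v := by exact_mod_cast e
          nlinarith
      · by_contra hv
        have : (v : ℤ) = 0 := by omega
        rw [this] at h1
        have : (0 : ℤ) ≤ (p : ℤ) * u := by positivity
        linarith) hf
  exact ⟨a, b, ha, hb, by simpa using hab⟩

theorem gen_three_n (hp : 0 < p) (hpq : p < q) (hcop : Nat.Coprime p q) (hm : 0 < m) (hnt : ¬ (q - p ∣ m))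
    (hc : IsHJDigits p q m c) (i : ℕ) (hi : 1 ≤ i) (hir : i ≤ c.length) (f : MvPolynomial (Fin 3) k)
    (hf : f ∈ weightedHomogeneousSubmodule k (wt3 p q m) (nN p q m c i, (0 : ZMod m))) :
    ∃ a b : MvPolynomial (Fin 3) k, a ∈ weightedHomogeneousSubmodule k (wt3 p q m) 0 ∧
      b ∈ weightedHomogeneousSubmodule k (wt3 p q m) 0 ∧
      f = a * X (0 : Fin 3) ^ (nN p q m c i).toNat +
        b * (X (1 : Fin 3) ^ (eE p q m c i).toNat * X (2 : Fin 3) ^ (lL p q m c i).toNat) := by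
  obtain ⟨hl, he, -, hel⟩ := e_l_facts hpq hcop hm hnt hc i hi hir
  obtain ⟨j, rfl⟩ : ∃ j, i = j + 1 := ⟨i - 1, by omega⟩
  obtain ⟨hn0, hnlt, hnD⟩ := nN_facts hpq hcop hm hnt hc j (by omega)
  obtain ⟨n, hn⟩ := Int.eq_ofNat_of_zero_le hn0
  obtain ⟨e, he'⟩ := Int.eq_ofNat_of_zero_le he.le
  obtain ⟨l, hl'⟩ := Int.eq_ofNat_of_zero_le hl
  rw [hn, he', hl']
  simp only [Int.toNat_natCast]
  rw [hn] at hf
  refine gen_two n e l f ?_ ?_ ?_ hf
  · rw [← hn, ← he', ← hl']; simp only [nN]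
  · rw [← he', ← hl', hel]; push_cast; simp
  · intro a u v h1 h2
    by_cases ha : n ≤ a
    · exact Or.inl ha
    · right
      have h' : (a : ℤ) < n := by exact_mod_cast (by omega : a < n)
      have hdvd : (m : ℤ) ∣ (u : ℤ) - v := by
        rw [← ZMod.intCast_zmod_eq_zero_iff_dvd]
        push_cast at h2 ⊢
        linear_combination -h2
      have hne : (0 : ℤ) < (u : ℤ) + v := by
        by_contra hcon
        have e1 : (u : ℤ) = 0 := by omega
        have e2 : (v : ℤ) = 0 := by omega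
        rw [e1, e2] at h1
        linarith
      obtain ⟨g1, g2⟩ := core hp hpq hcop hm hnt hc (j + 1) hi hir u v ((n : ℤ) - a)
        (Int.natCast_nonneg _) (Int.natCast_nonneg _) hne hdvd (by linarith) (by omega)
        (by simp only [Nat.add_sub_cancel]; omega)
      rw [he'] at g1; rw [hl'] at g2
      exact ⟨by exact_mod_cast g1, by exact_mod_cast g2⟩

set_option maxHeartbeats 1000000 in
theorem rank_L (hp : 0 < p) (hpq : p < q) (hcop : Nat.Coprime p q) (hm : 0 < m) (hnt : ¬ (q - p ∣ m))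
    (hc : IsHJDigits p q m c) (i : ℕ) (hi : 1 ≤ i) (hir : i ≤ c.length) (s : k) (ν : ℤ × ZMod m) :
    Module.rank k (piece k (wt3 p q m) (idealL k p q m c i s) ν) ≤ 1 := by
  obtain ⟨hl, he, -, hel⟩ := e_l_facts hpq hcop hm hnt hc i hi hir
  obtain ⟨hn0, hnlt, hnD⟩ := nN_facts hpq hcop hm hnt hc (i - 1) (by omega)
  rw [Nat.sub_add_cancel hi] at hn0 hnlt
  obtain ⟨n', hn'⟩ : ∃ n', n' = (nN p q m c (i - 1)).toNat := ⟨_, rfl⟩
  obtain ⟨n, hn⟩ : ∃ n, n = (nN p q m c i).toNat := ⟨_, rfl⟩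
  obtain ⟨e, he'⟩ : ∃ e, e = (eE p q m c i).toNat := ⟨_, rfl⟩
  obtain ⟨l, hl'⟩ : ∃ l, l = (lL p q m c i).toNat := ⟨_, rfl⟩
  have cn' : (n' : ℤ) = nN p q m c (i - 1) := by rw [hn', Int.toNat_of_nonneg (by omega)]
  have cn : (n : ℤ) = nN p q m c i := by rw [hn, Int.toNat_of_nonneg hn0]
  have ce : (e : ℤ) = eE p q m c i := by rw [he', Int.toNat_of_nonneg he.le]
  have cl : (l : ℤ) = lL p q m c i := by rw [hl', Int.toNat_of_nonneg hl]
  have hI : idealL k p q m c i s = Ideal.span {X 0 ^ n', C s * X 0 ^ n - X 1 ^ e * X 2 ^ l} ⊔ idealK k p q m := by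
    rw [idealL, ← hn', ← hn, ← he', ← hl']
  let φ : ℕ → ℕ → ℕ → MvPolynomial (Fin 3) k ⧸ idealL k p q m c i s :=
    fun a u v => Ideal.Quotient.mk _ (M3 a u v)
  have hz0 : ∀ a u v, n' ≤ a → φ a u v = 0 := fun a u v h => by
    obtain ⟨r, rfl⟩ := Nat.exists_eq_add_of_le h
    refine Ideal.Quotient.eq_zero_iff_mem.mpr ?_
    rw [hI]
    refine Ideal.mem_sup_left ?_
    rw [show M3 (k := k) (n' + r) u v = M3 r u v * X 0 ^ n' by simp only [M3]; ring]
    exact Ideal.mul_mem_left _ _ (Ideal.subset_span (by simp))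
  have hzK : ∀ a u v a' u' v' : ℕ, a' ≤ a → u' ≤ u → v' ≤ v → 0 < a' + u' + v' →
      (a' : ℤ) - p * u' + q * v' = 0 → (((v' : ℤ) - u' : ℤ) : ZMod m) = 0 → φ a u v = 0 := by
    intro a u v a' u' v' ha hu hv hpos h1 h2
    refine Ideal.Quotient.eq_zero_iff_mem.mpr ?_
    rw [hI]
    refine Ideal.mem_sup_right ?_
    obtain ⟨r, rfl⟩ := Nat.exists_eq_add_of_le ha
    obtain ⟨r', rfl⟩ := Nat.exists_eq_add_of_le hu
    obtain ⟨r'', rfl⟩ := Nat.exists_eq_add_of_le hv
    rw [show M3 (k := k) (a' + r) (u' + r') (v' + r'') = M3 r r' r'' * M3 a' u' v' by simp only [M3]; ring]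
    refine Ideal.mul_mem_left _ _ (Ideal.subset_span ⟨Finsupp.equivFunOnFinite.symm ![a', u', v'], ?_, ?_, ?_⟩)
    · intro h
      have e0 := DFunLike.congr_fun h 0
      have e1 := DFunLike.congr_fun h 1
      have e2 := DFunLike.congr_fun h 2
      simp at e0 e1 e2
      omega
    · rw [weight3]
      simp only [Finsupp.equivFunOnFinite_symm_apply_apply, Matrix.cons_val_zero, Matrix.cons_val_one,
        Matrix.cons_val]
      rw [h1, h2]; rfl
    · rw [monomial3]
      simp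
  have hred : ∀ a u v, φ a (u + e) (v + l) = s • φ (a + n) u v := fun a u v => by
    show Ideal.Quotient.mk _ (M3 a (u + e) (v + l)) = s • Ideal.Quotient.mk _ (M3 (a + n) u v)
    rw [← Ideal.Quotient.mkₐ_eq_mk k, ← map_smul, Ideal.Quotient.mkₐ_eq_mk, eq_comm,
      Ideal.Quotient.eq]
    rw [hI]
    refine Ideal.mem_sup_left ?_
    rw [show s • M3 (k := k) (a + n) u v - M3 a (u + e) (v + l)
        = M3 a u v * (C s * X 0 ^ n - X 1 ^ e * X 2 ^ l) by simp only [M3, smul_eq_C_mul]; ring]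
    exact Ideal.mul_mem_left _ _ (Ideal.subset_span (by simp))
  let Std : ℕ → ℕ → ℕ → Prop := fun a u v => a < n' ∧ ¬(e ≤ u ∧ l ≤ v) ∧
    ∀ a' u' v' : ℕ, a' ≤ a → u' ≤ u → v' ≤ v → 0 < a' + u' + v' →
      (a' : ℤ) - p * u' + q * v' = 0 → (((v' : ℤ) - u' : ℤ) : ZMod m) ≠ 0
  -- uniqueness
  have huniq : ∀ a u v a' u' v' : ℕ, Std a u v → Std a' u' v' → a' ≤ a →
      (a : ℤ) - p * u + q * v = (a' : ℤ) - p * u' + q * v' →
      (((v : ℤ) - u : ℤ) : ZMod m) = (((v' : ℤ) - u' : ℤ) : ZMod m) → a = a' ∧ u = u' ∧ v = v' := by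
    intro a u v a' u' v' hS hS' ha h1 h2
    obtain ⟨r, hr⟩ := Nat.exists_eq_add_of_le ha
    have hr' : (a : ℤ) = a' + r := by exact_mod_cast hr
    have hrlt : (r : ℤ) < n' := by have := hS.1; omega
    by_cases hcase : u' ≤ u ∧ v' ≤ v
    · obtain ⟨r1, hr1⟩ := Nat.exists_eq_add_of_le hcase.1
      obtain ⟨r2, hr2⟩ := Nat.exists_eq_add_of_le hcase.2
      by_contra hne
      refine hS.2.2 r r1 r2 (by omega) (by omega) (by omega) (by omega) ?_ ?_
      · have e1 : (u : ℤ) = u' + r1 := by exact_mod_cast hr1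
        have e2 : (v : ℤ) = v' + r2 := by exact_mod_cast hr2
        rw [hr', e1, e2] at h1
        linarith
      · rw [hr1, hr2] at h2
        push_cast at h2 ⊢
        linear_combination h2
    · exfalso
      have hqV : (q : ℤ) * ((v' : ℤ) - v) - p * ((u' : ℤ) - u) = r := by linarith
      have hp' : (0 : ℤ) < p := by exact_mod_cast hp
      have hpq' : (p : ℤ) < q := by exact_mod_cast hpq
      have hV : 0 ≤ (v' : ℤ) - v := by
        by_contra hcon
        simp only [not_le] at hcon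
        have hU : 0 < (u' : ℤ) - u := by
          by_contra hcon'
          exact hcase ⟨by omega, by omega⟩
        nlinarith
      have hU : 0 ≤ (u' : ℤ) - u := by
        by_contra hcon
        simp only [not_le] at hcon
        have hV1 : 1 ≤ (v' : ℤ) - v := by
          by_contra hcon'
          exact hcase ⟨by omega, by omega⟩
        nlinarith
      have hdvd : (m : ℤ) ∣ ((u' : ℤ) - u) - ((v' : ℤ) - v) := by
        rw [← ZMod.intCast_zmod_eq_zero_iff_dvd]
        push_cast at h2 ⊢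
        linear_combination h2
      obtain ⟨g1, g2⟩ := core hp hpq hcop hm hnt hc i hi hir _ _ r hU hV (by
        by_contra hcon
        exact hcase ⟨by omega, by omega⟩) hdvd hqV (Int.natCast_nonneg _) (by omega)
      exact hS'.2.1 ⟨by omega, by omega⟩
  -- normal forms
  have hnorm : ∀ N a u v : ℕ, u + v = N → φ a u v = 0 ∨ ∃ (x : k) (a' u' v' : ℕ), Std a' u' v' ∧
      (a : ℤ) - p * u + q * v = (a' : ℤ) - p * u' + q * v' ∧
      (((v : ℤ) - u : ℤ) : ZMod m) = (((v' : ℤ) - u' : ℤ) : ZMod m) ∧ φ a u v = x • φ a' u' v' := by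
    intro N
    induction N using Nat.strong_induction_on with
    | _ N ih =>
      intro a u v hN
      by_cases h1 : n' ≤ a
      · exact Or.inl (hz0 a u v h1)
      by_cases h2 : e ≤ u ∧ l ≤ v
      · obtain ⟨r, hr⟩ := Nat.exists_eq_add_of_le h2.1
        obtain ⟨r', hr'⟩ := Nat.exists_eq_add_of_le h2.2
        have hpos : 0 < e := by omega
        have hredu := hred a r r'
        rw [show r + e = u by omega, show r' + l = v by omega] at hredu
        rcases ih (r + r') (by omega) (a + n) r r' rfl with h | ⟨x, a', u', v', hS, hw1, hw2, hx⟩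
        · left; rw [hredu, h, smul_zero]
        · right
          refine ⟨s * x, a', u', v', hS, ?_, ?_, by rw [hredu, hx, smul_smul]⟩
          · rw [← hw1, hr, hr']
            have : (n : ℤ) = -(p : ℤ) * e + q * l := by rw [cn, ce, cl]; rfl
            push_cast
            linarith
          · rw [← hw2, hr, hr']
            have : ((((l : ℤ) - e : ℤ)) : ZMod m) = 0 := by rw [ce, cl, hel]; push_cast; simp
            push_cast at this ⊢
            linear_combination this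
      · by_cases h3 : ∃ a' u' v' : ℕ, a' ≤ a ∧ u' ≤ u ∧ v' ≤ v ∧ 0 < a' + u' + v' ∧
            (a' : ℤ) - p * u' + q * v' = 0 ∧ (((v' : ℤ) - u' : ℤ) : ZMod m) = 0
        · obtain ⟨a', u', v', ha, hu, hv, hpos, e1, e2⟩ := h3
          exact Or.inl (hzK a u v a' u' v' ha hu hv hpos e1 e2)
        · exact Or.inr ⟨1, a, u, v, ⟨by omega, h2, fun a' u' v' ha hu hv hpos e1 e2 =>
            h3 ⟨a', u', v', ha, hu, hv, hpos, e1, e2⟩⟩, rfl, rfl, (one_smul _ _).symm⟩
  refine rank_piece_le_one fun d d' hd hd' => ?_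
  rw [monomial3, monomial3]
  show (∃ x : k, φ _ _ _ = x • φ _ _ _) ∨ ∃ x : k, φ _ _ _ = x • φ _ _ _
  rw [weight3, Prod.ext_iff] at hd hd'
  simp only at hd hd'
  rcases hnorm _ (d 0) (d 1) (d 2) rfl with h | ⟨x, a₁, u₁, v₁, hS₁, e1, e2, hx⟩
  · exact Or.inl ⟨0, by rw [h, zero_smul]⟩
  rcases hnorm _ (d' 0) (d' 1) (d' 2) rfl with h | ⟨x', a₂, u₂, v₂, hS₂, e1', e2', hx'⟩
  · exact Or.inr ⟨0, by rw [h, zero_smul]⟩
  have heq : a₁ = a₂ ∧ u₁ = u₂ ∧ v₁ = v₂ := by
    rcases le_total a₂ a₁ with hle | hle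
    · exact huniq _ _ _ _ _ _ hS₁ hS₂ hle (by rw [← e1, ← e1', hd.1, hd'.1]) (by rw [← e2, ← e2', hd.2, hd'.2])
    · obtain ⟨r1, r2, r3⟩ := huniq _ _ _ _ _ _ hS₂ hS₁ hle (by rw [← e1, ← e1', hd.1, hd'.1]) (by rw [← e2, ← e2', hd.2, hd'.2])
      exact ⟨r1.symm, r2.symm, r3.symm⟩
  obtain ⟨rfl, rfl, rfl⟩ := heq
  by_cases hx0 : x' = 0
  · exact Or.inr ⟨0, by rw [hx', hx0, zero_smul, zero_smul]⟩
  · exact Or.inl ⟨x * x'⁻¹, by rw [hx, hx', smul_smul, mul_assoc, inv_mul_cancel₀ hx0, mul_one]⟩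

lemma proportional {R : Type*} [CommRing R] (x0 x1 x4 s : R) (D : ℕ) (hq : q = p + D)
    (hP : x1 * x4 = x0 ^ D) (hs : x0 ^ (m * p) * x1 ^ m = s) (hm : 0 < m)
    (a u v a' u' v' : ℕ) (hn : u = 0 ∨ v = 0) (hn' : u' = 0 ∨ v' = 0)
    (h1 : (a : ℤ) - p * u + q * v = (a' : ℤ) - p * u' + q * v')
    (h2 : (m : ℤ) ∣ ((v : ℤ) - u) - ((v' : ℤ) - u')) :
    (∃ z : ℕ, x0 ^ a * x1 ^ u * x4 ^ v = s ^ z * (x0 ^ a' * x1 ^ u' * x4 ^ v')) ∨
    (∃ z : ℕ, x0 ^ a' * x1 ^ u' * x4 ^ v' = s ^ z * (x0 ^ a * x1 ^ u * x4 ^ v)) := by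
  wlog hle : (v : ℤ) - u ≤ (v' : ℤ) - u' generalizing a u v a' u' v'
  · exact (this a' u' v' a u v hn' hn h1.symm (by rw [dvd_sub_comm]; exact h2) (by omega)).symm
  left
  obtain ⟨z, hz⟩ := h2
  have hz0 : z ≤ 0 := by
    by_contra hcon
    simp only [not_le] at hcon
    have : (0 : ℤ) < m * z := mul_pos (by exact_mod_cast hm) hcon
    omega
  obtain ⟨n, hn0⟩ := Int.eq_ofNat_of_zero_le (neg_nonneg.mpr hz0)
  have hkey : ((v' : ℤ) - u') = ((v : ℤ) - u) + m * n := by rw [← hn0]; linarith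
  refine ⟨n, ?_⟩
  rw [← hs, mul_pow, ← pow_mul, ← pow_mul]
  rcases hn with rfl | rfl <;> rcases hn' with rfl | rfl
  · -- both of second type
    have e : v' = v + m * n := by
      have : (v' : ℤ) = v + m * n := by simpa using hkey
      exact_mod_cast this
    subst e
    have e1 : a = m * p * n + a' + D * (m * n) := by
      have : (a : ℤ) = m * p * n + a' + D * (m * n) := by
        rw [hq] at h1; push_cast at h1; linarith
      exact_mod_cast this
    subst e1
    rw [pow_add, pow_add, pow_add, pow_mul x0 D (m * n), ← hP, mul_pow]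
    ring
  · have e : v + m * n + u' = 0 := by
      have : (v : ℤ) + m * n + u' = 0 := by push_cast at hkey; linarith
      exact_mod_cast this
    obtain ⟨e1, e2, e3⟩ : v = 0 ∧ m * n = 0 ∧ u' = 0 := by omega
    subst e1 e3
    have e4 : n = 0 := by rcases Nat.mul_eq_zero.mp e2 with h | h <;> omega
    subst e4
    have : a = a' := by simpa using h1
    simp [this]
  · have e : m * n = v' + u := by
      have : ((m * n : ℕ) : ℤ) = v' + u := by push_cast at hkey ⊢; linarith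
      exact_mod_cast this
    have e1 : a = m * p * n + a' + D * v' := by
      have hmn : ((m * n : ℕ) : ℤ) = v' + u := by exact_mod_cast e
      have : (a : ℤ) = m * p * n + a' + D * v' := by
        rw [hq] at h1; push_cast at h1 hmn
        linear_combination h1 - (p : ℤ) * hmn
      exact_mod_cast this
    subst e1
    rw [e, pow_add x1, pow_add, pow_add, pow_mul x0 D v', ← hP, mul_pow]
    ring
  · have e : u = u' + m * n := by
      have : (u : ℤ) = u' + m * n := by push_cast at hkey; linarith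
      exact_mod_cast this
    subst e
    have e1 : a = m * p * n + a' := by
      have : (a : ℤ) = m * p * n + a' := by push_cast at h1; linarith
      exact_mod_cast this
    subst e1
    rw [pow_add, pow_add]
    ring

lemma mk_M5 (I : Ideal (MvPolynomial (Fin 5) k)) (a b c e f : ℕ) :
    Ideal.Quotient.mk I (M5 (k := k) a b c e f) = Ideal.Quotient.mk I (X 0) ^ a * Ideal.Quotient.mk I (X 1) ^ b *
      Ideal.Quotient.mk I (X 2) ^ c * Ideal.Quotient.mk I (X 3) ^ e * Ideal.Quotient.mk I (X 4) ^ f := by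
  simp [M5]

lemma smul_quot {σ : Type*} (I : Ideal (MvPolynomial σ k)) (r : k) (x : MvPolynomial σ k ⧸ I) :
    r • x = Ideal.Quotient.mk I (C r) * x := by
  obtain ⟨f, rfl⟩ := Ideal.Quotient.mk_surjective x
  rw [← map_mul, ← smul_eq_C_mul]
  rfl

theorem rank_I (hpq : p < q) (hm : 0 < m) (s : k) (ν : ℤ × ZMod m) :
    Module.rank k (piece k (wt5 p q m) (idealI k p q m s) ν) ≤ 1 := by
  obtain ⟨D, hD, hqD⟩ : ∃ D, D = q - p ∧ q = p + D := ⟨q - p, rfl, by omega⟩
  let π := Ideal.Quotient.mk (idealI k p q m s)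
  have h0 : π (X 0) ^ D = π (X 1) * π (X 4) := by
    rw [← map_pow, ← map_mul]
    exact Ideal.Quotient.eq.mpr (Ideal.subset_span (by simp [hD]))
  have hs : π (X 0) ^ (m * p) * π (X 1) ^ m = π (C s) := by
    rw [← map_pow, ← map_pow, ← map_mul, eq_comm]
    exact Ideal.Quotient.eq.mpr (Ideal.subset_span (by simp))
  have h2 : π (X 2) = 0 := Ideal.Quotient.eq_zero_iff_mem.mpr (Ideal.subset_span (by simp))
  have h3 : π (X 3) = 0 := Ideal.Quotient.eq_zero_iff_mem.mpr (Ideal.subset_span (by simp))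
  refine rank_piece_le_one fun d d' hd hd' => ?_
  rw [monomial5, monomial5, mk_M5, mk_M5]
  by_cases hc : d 2 = 0 ∧ d 3 = 0
  swap
  · left; refine ⟨0, ?_⟩
    rcases not_and_or.mp hc with h | h <;> simp [π, h2, h3, zero_pow h] at *
  by_cases hc' : d' 2 = 0 ∧ d' 3 = 0
  swap
  · right; refine ⟨0, ?_⟩
    rcases not_and_or.mp hc' with h | h <;> simp [π, h2, h3, zero_pow h] at *
  simp only [hc.1, hc.2, hc'.1, hc'.2, pow_zero, mul_one]
  rw [weight5] at hd hd'
  have hww := hd.trans hd'.symm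
  rw [Prod.ext_iff] at hww
  obtain ⟨hw1, hw2⟩ := hww
  simp only [hc.1, hc.2, hc'.1, hc'.2, Nat.cast_zero, add_zero, zero_add] at hw1 hw2
  have norm : ∀ a b f : ℕ, π (X 0) ^ a * π (X 1) ^ b * π (X 4) ^ f =
      π (X 0) ^ (a + D * min b f) * π (X 1) ^ (b - min b f) * π (X 4) ^ (f - min b f) := by
    intro a b f
    obtain ⟨j, hj⟩ : ∃ j, j = min b f := ⟨_, rfl⟩
    rw [← hj]
    obtain ⟨r, hr⟩ := Nat.exists_eq_add_of_le (hj ▸ min_le_left b f : j ≤ b)
    obtain ⟨r', hr'⟩ := Nat.exists_eq_add_of_le (hj ▸ min_le_right b f : j ≤ f)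
    rw [pow_add, pow_mul, h0, mul_pow, hr, hr', Nat.add_sub_cancel_left, Nat.add_sub_cancel_left]
    ring
  rw [norm (d 0), norm (d' 0)]
  have hA : ((d 0 + D * min (d 1) (d 4) : ℕ) : ℤ) - p * ((d 1 - min (d 1) (d 4) : ℕ) : ℤ) + q * ((d 4 - min (d 1) (d 4) : ℕ) : ℤ)
      = ((d' 0 + D * min (d' 1) (d' 4) : ℕ) : ℤ) - p * ((d' 1 - min (d' 1) (d' 4) : ℕ) : ℤ) + q * ((d' 4 - min (d' 1) (d' 4) : ℕ) : ℤ) := by
    rw [Nat.cast_sub (min_le_left _ _), Nat.cast_sub (min_le_right _ _), Nat.cast_sub (min_le_left _ _),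
      Nat.cast_sub (min_le_right _ _)]
    rw [hqD] at hw1 ⊢
    push_cast at hw1 ⊢
    linear_combination hw1
  have hB : (m : ℤ) ∣ (((d 4 - min (d 1) (d 4) : ℕ) : ℤ) - ((d 1 - min (d 1) (d 4) : ℕ) : ℤ)) -
      (((d' 4 - min (d' 1) (d' 4) : ℕ) : ℤ) - ((d' 1 - min (d' 1) (d' 4) : ℕ) : ℤ)) := by
    rw [Nat.cast_sub (min_le_left _ _), Nat.cast_sub (min_le_right _ _), Nat.cast_sub (min_le_left _ _),
      Nat.cast_sub (min_le_right _ _), ← ZMod.intCast_zmod_eq_zero_iff_dvd]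
    push_cast at hw2 ⊢
    linear_combination hw2
  rcases proportional (π (X 0)) (π (X 1)) (π (X 4)) (π (C s)) D hqD h0.symm hs hm _ _ _ _ _ _
    (by omega) (by omega) hA hB with ⟨z, hz⟩ | ⟨z, hz⟩
  · refine Or.inl ⟨s ^ z, hz.trans ?_⟩
    rw [smul_quot, map_pow C, map_pow]
  · refine Or.inr ⟨s ^ z, hz.trans ?_⟩
    rw [smul_quot, map_pow C, map_pow]

theorem rank_J (hpq : p < q) (hcop : Nat.Coprime p q) (hm : 0 < m) (s : k) (ν : ℤ × ZMod m) :
    Module.rank k (piece k (wt5 p q m) (idealJ k p q m s) ν) ≤ 1 := by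
  obtain ⟨D, hD, hqD⟩ : ∃ D, D = q - p ∧ q = p + D := ⟨q - p, rfl, by omega⟩
  obtain ⟨g, hg⟩ : ∃ g, g = Nat.gcd m (q - p) := ⟨_, rfl⟩
  have hgpos : 0 < g := hg ▸ Nat.gcd_pos_of_pos_left _ hm
  obtain ⟨A, hA⟩ : g ∣ m := hg ▸ Nat.gcd_dvd_left _ _
  obtain ⟨B, hB⟩ : g ∣ D := by rw [hg, hD]; exact Nat.gcd_dvd_right _ _
  have hmA : m / g = A := by rw [hA, Nat.mul_div_cancel_left _ hgpos]
  have hAB : IsCoprime (A : ℤ) B := by
    have h := Nat.coprime_div_gcd_div_gcd (show 0 < Nat.gcd m (q - p) from hg ▸ hgpos)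
    rw [← hg, hmA, ← hD, hB, Nat.mul_div_cancel_left _ hgpos] at h
    exact Nat.isCoprime_iff_coprime.mpr h
  let π := Ideal.Quotient.mk (idealJ k p q m s)
  have h0 : π (X 0) ^ g = 0 := by
    rw [← map_pow]
    exact Ideal.Quotient.eq_zero_iff_mem.mpr (Ideal.subset_span (by simp [hg]))
  have hs : π (X 1) ^ (A * q) * π (X 3) ^ (A * p) = π (C s) := by
    rw [← map_pow, ← map_pow, ← map_mul, eq_comm]
    exact Ideal.Quotient.eq.mpr (Ideal.subset_span (by rw [← hg, hmA]; simp))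
  have h2 : π (X 2) = 0 := Ideal.Quotient.eq_zero_iff_mem.mpr (Ideal.subset_span (by simp))
  have h4 : π (X 4) = 0 := Ideal.Quotient.eq_zero_iff_mem.mpr (Ideal.subset_span (by simp))
  have key : ∀ d d' : Fin 5 →₀ ℕ, Finsupp.weight (wt5 p q m) d = ν → Finsupp.weight (wt5 p q m) d' = ν →
      d 2 = 0 → d 4 = 0 → d 0 < g → d' 2 = 0 → d' 4 = 0 → d' 0 < g → (d' 1 : ℤ) ≤ d 1 →
      ∃ c : k, π (monomial d 1) = c • π (monomial d' 1) := by
    intro d d' hd hd' c1 c2 c3 c1' c2' c3' hle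
    rw [weight5] at hd hd'
    have hww := hd.trans hd'.symm
    rw [Prod.ext_iff] at hww
    obtain ⟨hw1, hw2⟩ := hww
    simp only [c1, c2, c1', c2', Nat.cast_zero, add_zero] at hw1 hw2
    have hdvd : (m : ℤ) ∣ ((d 3 : ℤ) - d' 3) - ((d 1 : ℤ) - d' 1) := by
      rw [← ZMod.intCast_zmod_eq_zero_iff_dvd]
      push_cast at hw2 ⊢
      linear_combination hw2
    obtain ⟨z, hz⟩ := hdvd
    have ha : (d 0 : ℤ) - d' 0 = g * (-(B : ℤ) * ((d 1 : ℤ) - d' 1) - q * A * z) := by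
      have e1 : (m : ℤ) = g * A := by exact_mod_cast hA
      have e2 : (D : ℤ) = g * B := by exact_mod_cast hB
      have e3 : (q : ℤ) = p + D := by exact_mod_cast hqD
      linear_combination hw1 - (q : ℤ) * hz - (q : ℤ) * z * e1 - ((d 1 : ℤ) - d' 1) * e2 - ((d 1 : ℤ) - d' 1) * e3
    have ha0 : (d 0 : ℤ) = d' 0 := by
      have := Int.eq_zero_of_abs_lt_dvd (Dvd.intro _ ha.symm) (by
        rw [abs_lt]; constructor <;> omega)
      omega
    have hU : (B : ℤ) * ((d 1 : ℤ) - d' 1) = -((q : ℤ) * A * z) := by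
      rw [ha0, sub_self] at ha
      rcases mul_eq_zero.mp ha.symm with h | h
      · omega
      · linarith
    obtain ⟨t, ht⟩ : (A : ℤ) ∣ (d 1 : ℤ) - d' 1 :=
      hAB.dvd_of_dvd_mul_left ⟨-((q : ℤ) * z), by rw [hU]; ring⟩
    have hAp : (A : ℤ) ≠ 0 := by
      intro h
      have : A = 0 := by exact_mod_cast h
      rw [this, Nat.mul_zero] at hA
      omega
    have hBt : (B : ℤ) * t = -((q : ℤ) * z) := mul_left_cancel₀ hAp (by rw [ht] at hU; linear_combination hU)
    have hcp : IsCoprime (q : ℤ) B := by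
      have h := Nat.coprime_self_sub_left hpq.le
      have : Nat.Coprime q (q - p) := by
        rw [Nat.coprime_comm, h]
        exact hcop
      rw [← hD, hB] at this
      exact Nat.isCoprime_iff_coprime.mpr this.coprime_mul_left_right
    obtain ⟨n, hn⟩ : (q : ℤ) ∣ t := hcp.dvd_of_dvd_mul_left ⟨-z, by rw [hBt]; ring⟩
    have hq0 : (q : ℤ) ≠ 0 := by exact_mod_cast (by omega : q ≠ 0)
    have hzB : z = -(B : ℤ) * n := mul_left_cancel₀ hq0 (by rw [hn] at hBt; linear_combination hBt)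
    have hn0 : 0 ≤ n := by
      by_contra hcon
      simp only [not_le] at hcon
      rw [hn] at ht
      have : (A : ℤ) * q * n < 0 := mul_neg_of_pos_of_neg (mul_pos (by omega) (by omega)) hcon
      linarith
    obtain ⟨n, rfl⟩ := Int.eq_ofNat_of_zero_le hn0
    have e1 : d 1 = d' 1 + A * q * n := by
      have : (d 1 : ℤ) = d' 1 + A * q * n := by rw [hn] at ht; linarith
      exact_mod_cast this
    have e3 : d 3 = d' 3 + A * p * n := by
      have : (d 3 : ℤ) = d' 3 + A * p * n := by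
        have e1' : (d 1 : ℤ) = d' 1 + A * q * n := by exact_mod_cast e1
        have f1 : (m : ℤ) = g * A := by exact_mod_cast hA
        have f2 : (D : ℤ) = g * B := by exact_mod_cast hB
        have f3 : (q : ℤ) = p + D := by exact_mod_cast hqD
        linear_combination hz + e1' + z * f1 + (g : ℤ) * A * hzB + (A : ℤ) * n * f2 + (A : ℤ) * n * f3
      exact_mod_cast this
    have e0 : d 0 = d' 0 := by exact_mod_cast ha0
    refine ⟨s ^ n, ?_⟩
    rw [monomial5, monomial5, show π = Ideal.Quotient.mk (idealJ k p q m s) from rfl, mk_M5, mk_M5, c1, c2, c1', c2', smul_quot, map_pow C, map_pow,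
      show Ideal.Quotient.mk (idealJ k p q m s) (C s) = π (C s) from rfl, ← hs, e0, e1, e3]
    simp only [π]
    ring
  refine rank_piece_le_one fun d d' hd hd' => ?_
  by_cases hc : d 2 = 0 ∧ d 4 = 0 ∧ d 0 < g
  swap
  · left; refine ⟨0, ?_⟩
    rw [monomial5, mk_M5, zero_smul]
    simp only [not_and_or, not_lt] at hc
    rcases hc with h | h | h
    · simp [π] at h2; simp [h2, zero_pow h]
    · simp [π] at h4; simp [h4, zero_pow h]
    · simp only [π] at h0
      rw [pow_eq_zero_of_le h h0]; ring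
  by_cases hc' : d' 2 = 0 ∧ d' 4 = 0 ∧ d' 0 < g
  swap
  · right; refine ⟨0, ?_⟩
    rw [monomial5, mk_M5, zero_smul]
    simp only [not_and_or, not_lt] at hc'
    rcases hc' with h | h | h
    · simp [π] at h2; simp [h2, zero_pow h]
    · simp [π] at h4; simp [h4, zero_pow h]
    · simp only [π] at h0
      rw [pow_eq_zero_of_le h h0]; ring
  rcases le_total (d' 1 : ℤ) (d 1 : ℤ) with h | h
  · exact Or.inl (key d d' hd hd' hc.1 hc.2.1 hc.2.2 hc'.1 hc'.2.1 hc'.2.2 h)
  · exact Or.inr (key d' d hd' hd hc'.1 hc'.2.1 hc'.2.2 hc.1 hc.2.1 hc.2.2 h)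

end Groth.Agent.HJH28
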